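import Groth.Agent.PicNum61.FibInv
import Groth.Agent.Pic13Lib.Pieces
import Groth.Agent.S4070
import Groth.Agent.PicNum61.Basic

/-!
# A bounded sequence of invertible modules has two algebraically equivalent members
-/

set_option autoImplicit false
set_option linter.style.haveILetI false
set_option linter.unusedSectionVars false
set_option backward.isDefEq.respectTransparency false
set_option backward.isDefEq.respectTransparency.types false
set_option maxHeartbeats 1000000

universe u

open CategoryTheory CategoryTheory.Limits AlgebraicGeometry TopologicalSpace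

noncomputable section

namespace Groth.Agent.PicNum61

open Groth.Agent

/-- A connected component of a noetherian space is open. -/
theorem isOpen_connectedComponent' {Z : Type*} [TopologicalSpace Z] [NoetherianSpace Z] (z : Z) :
    IsOpen (connectedComponent z) := by
  haveI := S4070.finite_connectedComponents Z
  haveI : DiscreteTopology (ConnectedComponents Z) := by
    exact inferInstance
  rw [← connectedComponents_preimage_singleton]
  exact (isOpen_discrete _).preimage ConnectedComponents.continuous_coe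

variable {k : Type u} [Field k] [IsAlgClosed k] {X : Scheme.{u}} [X.Over (Spec (CommRingCat.of k))]

local notation "π" => (X ↘ Spec (CommRingCat.of k))

/-- The slice over a rational point is the base change of that point. -/
theorem isPullback_sliceAt {T : Scheme.{u}} (q : T ⟶ Spec (CommRingCat.of k))
    (t : Spec (CommRingCat.of k) ⟶ T) (ht : t ≫ q = 𝟙 _) :
    IsPullback (Pic13.sliceAt k X q t ht) π (pullback.snd π q) t :=
  IsPullback.of_right (by
    rw [show Pic13.sliceAt k X q t ht ≫ pullback.fst π q = 𝟙 X from pullback.lift_fst _ _ _, ht]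
    exact IsPullback.of_horiz_isIso ⟨by simp⟩) (pullback.lift_snd _ _ _) (IsPullback.of_hasPullback π q)

/-- Two members of a bounded sequence of invertible modules differ by a module algebraically equivalent to zero. -/
theorem exists_algEquivZero_pair [IsProper π] {P : X.Modules → Prop} (hP : Pic13.IsBounded k X P)
    (L : ℕ → X.Modules) (hL : ∀ j, PicF.IsInvertible (L j)) (hmem : ∀ j, P (L j)) :
    ∃ a b : ℕ, a < b ∧ ∀ N : X.Modules, PicF.IsInvertible N →
      Nonempty (CohB1.tensorMod (L a) N ≅ Coh.structureModule X) →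
      Pic13.IsAlgEquivZero k X (CohB1.tensorMod (L b) N) := by
  obtain ⟨T, q, h1, h2, F, hF, hFmem⟩ := hP
  obtain ⟨r, Y, q', hq, hc, G, hG, hflat, hpts⟩ := Pic13Lib.exists_flat_pieces q F hF
  have hpts' : ∀ j, ∃ (a : Fin r) (t : Spec (CommRingCat.of k) ⟶ Y a) (ht : t ≫ q' a = 𝟙 _),
      Nonempty (Pic13.fibreMod k X (q' a) t ht (G a) ≅ L j) := fun j => by
    obtain ⟨t, ht, ⟨e⟩⟩ := hFmem (L j) (hmem j)
    obtain ⟨a, t', ht', ⟨e'⟩⟩ := hpts t ht
    exact ⟨a, t', ht', ⟨e' ≪≫ e⟩⟩
  choose pc hpc using hpts'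
  obtain ⟨a₀, hinf⟩ := Finite.exists_infinite_fiber pc
  haveI := hq a₀
  haveI := hc a₀
  let J := pc ⁻¹' {a₀}
  have hJ : ∀ j : J, ∃ (t : Spec (CommRingCat.of k) ⟶ Y a₀) (ht : t ≫ q' a₀ = 𝟙 _),
      Nonempty (Pic13.fibreMod k X (q' a₀) t ht (G a₀) ≅ L j) := fun ⟨j, hj⟩ => by
    have := hpc j
    rw [show pc j = a₀ from hj] at this
    exact this
  choose pt hpt hiso using hJ
  let Pr := Pic13.prodK k X (q' a₀)
  let p : Pr ⟶ Y a₀ := pullback.snd π (q' a₀)
  haveI : IsLocallyNoetherian (Y a₀) := LocallyOfFiniteType.isLocallyNoetherian (q' a₀)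
  haveI : IsNoetherian (Y a₀) := { }
  haveI : IsLocallyNoetherian Pr := LocallyOfFiniteType.isLocallyNoetherian p
  -- the locus of invertibility
  let Wset : Set Pr := {z | ∃ U : Pr.Opens, z ∈ U ∧
    Nonempty ((Scheme.Modules.restrictFunctor U.ι).obj (G a₀) ≅ Coh.structureModule U.toScheme)}
  have hWopen : IsOpen Wset := isOpen_iff_forall_mem_open.2 fun z hz => by
    obtain ⟨U, hzU, hU⟩ := hz
    exact ⟨U, fun w hw => ⟨U, hw, hU⟩, U.2, hzU⟩
  let Uset : Set (Y a₀) := (p '' Wsetᶜ)ᶜ
  have hUopen : IsOpen Uset := (p.isClosedMap _ hWopen.isClosed_compl).isOpen_compl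
  let y : J → Y a₀ := fun j => pt j (IsLocalRing.closedPoint k)
  have hyU : ∀ j, y j ∈ Uset := fun j => by
    rintro ⟨z, hzW, hzy⟩
    haveI : IsClosedImmersion (pt j) := by
      haveI : IsImmersion (pt j ≫ q' a₀) := by rw [hpt j]; infer_instance
      haveI : IsImmersion (pt j) := IsImmersion.of_comp (pt j) (q' a₀)
      haveI : IsPreimmersion (pt j) := inferInstance
      refine IsClosedImmersion.of_isPreimmersion _ ?_
      have hcl := (pointEquivClosedPoint (q' a₀) ⟨pt j, hpt j⟩).2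
      have hr : Set.range (pt j) = {y j} := by
        ext w
        constructor
        · rintro ⟨v, rfl⟩
          rw [Subsingleton.elim v (IsLocalRing.closedPoint k)]
          rfl
        · rintro rfl
          exact ⟨_, rfl⟩
      rw [hr]
      exact hcl
    have H := isPullback_sliceAt (X := X) (q' a₀) (pt j) (hpt j)
    have hz : z ∈ Set.range (pullback.fst p (pt j)) := by
      rw [Scheme.Pullback.range_fst]
      exact ⟨IsLocalRing.closedPoint k, hzy.symm⟩
    obtain ⟨w, hw⟩ := hz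
    obtain ⟨x, hx⟩ : ∃ x, H.isoPullback.hom x = w := ⟨H.isoPullback.inv w, by
      rw [← Scheme.Hom.comp_apply, Iso.inv_hom_id]; rfl⟩
    have hxz : Pic13.sliceAt k X (q' a₀) (pt j) (hpt j) x = z := by
      rw [← hw, ← hx, ← Scheme.Hom.comp_apply, H.isoPullback_hom_fst]
    apply hzW
    rw [← hxz]
    exact exists_invertible_nhd H (hG a₀) (hflat a₀)
      (H23.PicMul.isInvertible_of_iso (hiso j).some.symm (hL j)) x
  haveI : NoetherianSpace (Y a₀) := inferInstance
  haveI : NoetherianSpace ↥Uset := Topology.IsInducing.subtypeVal.noetherianSpace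
  haveI hfin : Finite (_root_.ConnectedComponents ↥Uset) := S4070.finite_connectedComponents _
  obtain ⟨i₁, i₂, hne, hcomp⟩ := Finite.exists_ne_map_eq_of_infinite
    (fun j : J => _root_.ConnectedComponents.mk (⟨y j, hyU j⟩ : ↥Uset))
  wlog hlt : (i₁ : ℕ) < i₂ generalizing i₁ i₂
  · exact this i₂ i₁ hne.symm hcomp.symm (lt_of_le_of_ne (not_lt.1 hlt) fun h => hne (Subtype.ext h).symm)
  refine ⟨i₁, i₂, hlt, fun N hN ⟨eN⟩ => ?_⟩
  let C : Set ↥Uset := connectedComponent (⟨y i₁, hyU i₁⟩ : ↥Uset)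
  let V : (Y a₀).Opens := ⟨Subtype.val '' C, hUopen.isOpenMap_subtype_val _ (isOpen_connectedComponent' _)⟩
  have hVU : (V : Set (Y a₀)) ⊆ Uset := fun v hv => by
    obtain ⟨c, -, rfl⟩ := hv
    exact c.2
  have hy1 : y i₁ ∈ V := ⟨_, mem_connectedComponent, rfl⟩
  have hy2 : y i₂ ∈ V := ⟨_, _root_.ConnectedComponents.coe_eq_coe'.1 hcomp.symm, rfl⟩
  haveI : ConnectedSpace V.toScheme :=
    isConnected_iff_connectedSpace.1 (isConnected_connectedComponent.image _ continuous_subtype_val.continuousOn)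
  haveI : CompactSpace V.toScheme := by
    haveI : NoetherianSpace V.toScheme := V.ι.isOpenEmbedding.isInducing.noetherianSpace
    infer_instance
  let qV : V.toScheme ⟶ Spec (CommRingCat.of k) := V.ι ≫ q' a₀
  have hrange : ∀ j, y j ∈ V → Set.range (pt j) ⊆ Set.range V.ι := by
    rintro j hj _ ⟨v, rfl⟩
    rw [Scheme.Opens.range_ι, Subsingleton.elim v (IsLocalRing.closedPoint k)]
    exact hj
  let g : Pic13.prodK k X qV ⟶ Pr := pullback.map π qV π (q' a₀) (𝟙 X) V.ι (𝟙 _) (by simp) (by simp [qV])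
  have hinv : PicF.IsInvertible ((Scheme.Modules.pullback g).obj (G a₀)) := by
    intro z
    have hp : p (g z) ∈ V := by
      rw [← Scheme.Hom.comp_apply, show g ≫ p = pullback.snd π qV ≫ V.ι from pullback.lift_snd _ _ _,
        Scheme.Hom.comp_apply]
      exact ((pullback.snd π qV) z).2
    have hW : g z ∈ Wset := by
      by_contra hc'
      exact hVU hp ⟨g z, hc', rfl⟩
    obtain ⟨U', hzU, ⟨e⟩⟩ := hW
    have h : (g ⁻¹ᵁ U').ι ≫ g = (g ∣_ U') ≫ U'.ι := (morphismRestrict_ι g U').symm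
    obtain ⟨e'⟩ := PicClLib.nonempty_pullback_structureModule (g ∣_ U')
    refine ⟨g ⁻¹ᵁ U', hzU, ⟨?_⟩⟩
    exact (Scheme.Modules.restrictFunctorIsoPullback (g ⁻¹ᵁ U').ι).app _ ≪≫
      (Scheme.Modules.pullbackComp (g ⁻¹ᵁ U').ι g).app (G a₀) ≪≫
      (Scheme.Modules.pullbackCongr h).app (G a₀) ≪≫
      ((Scheme.Modules.pullbackComp (g ∣_ U') U'.ι).app (G a₀)).symm ≪≫
      (Scheme.Modules.pullback (g ∣_ U')).mapIso
        (((Scheme.Modules.restrictFunctorIsoPullback U'.ι).app (G a₀)).symm ≪≫ e) ≪≫ e'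
  refine ⟨V.toScheme, qV, inferInstance, inferInstance,
    (inferInstance : QuasiCompact qV),
    CohB1.tensorMod ((Scheme.Modules.pullback g).obj (G a₀)) ((Scheme.Modules.pullback (pullback.fst π qV)).obj N),
    H23.PicMul.isInvertible_tensor hinv (PicClLib.isInvertible_pullback _ hN), ?_⟩
  have key : ∀ j : J, y j ∈ V → ∃ (t : Spec (CommRingCat.of k) ⟶ V.toScheme) (ht : t ≫ qV = 𝟙 _),
      Nonempty (Pic13.fibreMod k X qV t ht
        (CohB1.tensorMod ((Scheme.Modules.pullback g).obj (G a₀)) ((Scheme.Modules.pullback (pullback.fst π qV)).obj N)) ≅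
        CohB1.tensorMod (L j) N) := fun j hj => by
    let t := IsOpenImmersion.lift V.ι (pt j) (hrange j hj)
    have ht0 : t ≫ V.ι = pt j := IsOpenImmersion.lift_fac _ _ _
    have ht : t ≫ qV = 𝟙 _ := by rw [← Category.assoc, ht0, hpt j]
    refine ⟨t, ht, ?_⟩
    obtain ⟨d⟩ := H23.PicMul.pull (Pic13.sliceAt k X qV t ht) ((Scheme.Modules.pullback g).obj (G a₀))
      ((Scheme.Modules.pullback (pullback.fst π qV)).obj N)
    have hg : Pic13.sliceAt k X qV t ht ≫ g = Pic13.sliceAt k X (q' a₀) (pt j) (hpt j) := by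
      apply pullback.hom_ext
      · simp [g, Pic13.sliceAt]
      · simp [g, Pic13.sliceAt, ht0]
    exact ⟨d ≪≫ PicGrp.tensorModIso
      ((Scheme.Modules.pullbackComp _ g).app (G a₀) ≪≫ (Scheme.Modules.pullbackCongr hg).app (G a₀) ≪≫ (hiso j).some)
      ((Scheme.Modules.pullbackComp _ (pullback.fst π qV)).app N ≪≫
        (Scheme.Modules.pullbackCongr (pullback.lift_fst _ _ _ :
          Pic13.sliceAt k X qV t ht ≫ pullback.fst π qV = 𝟙 X)).app N ≪≫ (Scheme.Modules.pullbackId X).app N)⟩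
  obtain ⟨t₂, ht₂, e₂⟩ := key i₂ hy2
  obtain ⟨t₁, ht₁, ⟨e₁⟩⟩ := key i₁ hy1
  exact ⟨t₂, t₁, ht₂, ht₁, e₂, ⟨e₁ ≪≫ eN⟩⟩

end Groth.Agent.PicNum61
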