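import Groth.Agent.PicNum61.Tau
import Groth.Agent.AbTors.Deg

/-!
# If all twists `L^{± m} ⊗ H` are ample then `L` is numerically trivial
-/

set_option autoImplicit false
set_option linter.style.haveILetI false
set_option linter.unusedSectionVars false
set_option backward.isDefEq.respectTransparency false
set_option backward.isDefEq.respectTransparency.types false
set_option maxHeartbeats 1000000

universe u

open CategoryTheory CategoryTheory.Limits AlgebraicGeometry TopologicalSpace

noncomputable section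

namespace Groth.Agent.PicNum61

open Groth.Agent
open scoped Groth.Agent.H23.PicMul

variable (k : Type u) [Field k] {X : Scheme.{u}} [X.Over (Spec (CommRingCat.of k))]
  [IsProper (X ↘ Spec (CommRingCat.of k))]

/-- Twists ample in both directions force degree zero on every curve. -/
theorem numTriv_of_twists_ample {H L L' : X.Modules} (hH : PicF.IsInvertible H) (hL : PicF.IsInvertible L)
    (hL' : PicF.IsInvertible L') (e : CohB1.tensorMod L L' ≅ Coh.structureModule X)
    (hamp : ∀ m : ℕ, CohB1.IsAmple (CohB1.tensorMod (CohB1.tensorPow L m) H) ∧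
      CohB1.IsAmple (CohB1.tensorMod (CohB1.tensorPow L' m) H)) : NumTriv k L := by
  refine ⟨hL, fun Y i _ hint hd => ?_⟩
  letI := SurfInt.overComp k i
  haveI := SurfInt.isProper_comp k i (rfl : i ≫ (X ↘ Spec (CommRingCat.of k)) = Y ↘ Spec (CommRingCat.of k))
  haveI := SurfInt.noeth k (X := Y)
  haveI : CompactSpace Y := inferInstance
  let c := PicF.pullCl i (PicF.cl L)
  let c' := PicF.pullCl i (PicF.cl L')
  let h := PicF.pullCl i (PicF.cl H)
  have hc : PicF.IsInvertibleCl c := ⟨_, rfl, PicClLib.isInvertible_pullback i hL⟩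
  have hc' : PicF.IsInvertibleCl c' := ⟨_, rfl, PicClLib.isInvertible_pullback i hL'⟩
  have hh : PicF.IsInvertibleCl h := ⟨_, rfl, PicClLib.isInvertible_pullback i hH⟩
  have hpow : ∀ {a : PicF.Cl Y}, PicF.IsInvertibleCl a → ∀ m : ℕ, PicF.IsInvertibleCl (a ^ m) := by
    rintro a ⟨A, rfl, hA⟩ m
    exact ⟨_, H23.PicMul.cl_tensorPow A m, InvX.isInvertible_tensorPow hA m⟩
  have h1 : AbTors.dg k c + AbTors.dg k c' = 0 := by
    rw [← AbTors.dg_mul k hd hc hc',
      show c * c' = 1 from (H23.PicMul.pullCl_mul i _ _).symm.trans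
        ((congrArg (PicF.pullCl i) ((H23.PicMul.cl_tensor L L').symm.trans (H23.PicMul.cl_eq_iff.2 ⟨e⟩))).trans
          (H23.PicMul.pullCl_one i))]
    exact AbTors.dg_one k
  have key : ∀ (A : X.Modules), PicF.IsInvertible A → CohB1.IsAmple A → 0 < AbTors.dg k (PicF.pullCl i (PicF.cl A)) :=
    fun A _ hA => AbTors.deg_pos_of_isAmple k hd (AbTors.isAmple_pullback_of_isAffineHom i hA)
  have h2 : ∀ m : ℕ, 0 < (m : ℤ) * AbTors.dg k c + AbTors.dg k h ∧ 0 < (m : ℤ) * AbTors.dg k c' + AbTors.dg k h :=
    fun m => by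
    constructor
    · have := key _ (hamp m).1.1 (hamp m).1
      rw [H23.PicMul.cl_tensor, H23.PicMul.pullCl_mul, H23.PicMul.cl_tensorPow, H23.PicMul.pullCl_pow,
        AbTors.dg_mul k hd (hpow hc m) hh, AbTors.dg_pow k hd hc m] at this
      exact this
    · have := key _ (hamp m).2.1 (hamp m).2
      rw [H23.PicMul.cl_tensor, H23.PicMul.pullCl_mul, H23.PicMul.cl_tensorPow, H23.PicMul.pullCl_pow,
        AbTors.dg_mul k hd (hpow hc' m) hh, AbTors.dg_pow k hd hc' m] at this
      exact this
  have hz : AbTors.dg k c = 0 := by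
    obtain ⟨a, b⟩ := h2 ((AbTors.dg k h).toNat + 1)
    push_cast at a b
    have h0 := (h2 0).1
    simp at h0
    rw [Int.toNat_of_nonneg h0.le] at a b
    rcases lt_trichotomy (AbTors.dg k c) 0 with hlt | heq | hgt
    · nlinarith
    · exact heq
    · nlinarith
  have hLi := PicClLib.isInvertible_pullback i hL
  show FGA.eulerCharLE k Y _ 1 - FGA.eulerCharLE k Y _ 1 = 0
  rw [SurfInt.eulerCharLE_eq_euler k (d := 1) hd.le (AmpleVan.isCoh_invertible hLi).1,
    SurfInt.eulerCharLE_eq_euler k (d := 1) hd.le (StMod.isQCoh_structureModule Y)]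
  change Curv2.deg k Y ((Scheme.Modules.pullback i).obj L) 1 = 0 at hz
  unfold Curv2.deg at hz
  simp at hz
  omega

end Groth.Agent.PicNum61
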