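import Groth.Agent.S1393
import Groth.Agent.H23.GysinPb
import Groth.Agent.KFlatLib.Scheme.Pullback
import Groth.Agent.ConsPropLib.FibreLocFreeRank
import Groth.Agent.Lib.InvEnd
import Groth.Agent.FDescent.StalkFinite
import Groth.Agent.FlatDvr.FibreStalk
import Mathlib.RingTheory.LocalRing.ResidueField.Basic

/-!
# Flat families with an invertible fibre are invertible near the fibre
-/

set_option autoImplicit false
set_option linter.style.haveILetI false
set_option linter.unusedSectionVars false
set_option backward.isDefEq.respectTransparency false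
set_option backward.isDefEq.respectTransparency.types false
set_option maxHeartbeats 1000000

universe u

open CategoryTheory CategoryTheory.Limits AlgebraicGeometry TopologicalSpace IsLocalRing TensorProduct

noncomputable section

namespace Groth.Agent.PicNum61

open Groth.Agent

variable {W P T : Scheme.{u}} {K : Type u} [Field K] {s : W ⟶ P} {π : W ⟶ Spec (CommRingCat.of K)}
  {p : P ⟶ T} {t : Spec (CommRingCat.of K) ⟶ T}

/-- The kernel of a stalk map along the pullback of a closed point. -/
theorem ker_stalkMap_of_isPullback [IsClosedImmersion t] (H : IsPullback s π p t) (x : W) :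
    RingHom.ker (s.stalkMap x).hom ≤
      (maximalIdeal (T.presheaf.stalk (p (s x)))).map (p.stalkMap (s x)).hom := by
  let ψ := H.isoPullback.hom
  let z := ψ x
  have e : ψ ≫ pullback.fst p t = s := IsPullback.isoPullback_hom_fst _
  intro a ha
  rw [RingHom.mem_ker] at ha
  have main : ∀ (g : W ⟶ P), g = ψ ≫ pullback.fst p t → ∀ b : P.presheaf.stalk (g x),
      (g.stalkMap x).hom b = 0 → b ∈ (maximalIdeal (T.presheaf.stalk (p (g x)))).map (p.stalkMap (g x)).hom := by
    rintro g rfl b hb
    rw [Scheme.Hom.stalkMap_comp] at hb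
    change (ψ.stalkMap x).hom (((pullback.fst p t).stalkMap z).hom b) = 0 at hb
    have hb' : b ∈ RingHom.ker ((pullback.fst p t).stalkMap z).hom :=
      (ConcreteCategory.bijective_of_isIso (ψ.stalkMap x)).1 (hb.trans (map_zero _).symm)
    rw [H23.GysinPb.ker_stalkMap_fst, H23.GysinPb.baseMap, CommRingCat.hom_comp, ← Ideal.map_map] at hb'
    refine Ideal.map_mono ?_ hb'
    refine Ideal.map_le_iff_le_comap.mpr fun c hc => ?_
    refine (IsLocalRing.mem_maximalIdeal _).2 ?_
    exact fun hu => by
      have hu' := isUnit_of_map_unit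
        (T.presheaf.stalkCongr (Inseparable.of_eq (H23.GysinPb.apply_fst_eq p t z).symm)).hom.hom c hu
      have hu'' := hu'.map (t.stalkMap (pullback.snd p t z)).hom
      rw [show (t.stalkMap (pullback.snd p t z)).hom c = 0 from hc] at hu''
      exact not_isUnit_zero hu''
  exact main s e.symm a ha

/-- A flat family whose fibre is invertible is invertible near the fibre. -/
theorem exists_invertible_nhd [IsLocallyNoetherian P] [IsClosedImmersion t] (H : IsPullback s π p t)
    {G : P.Modules} (hG : Coh.IsCoh G) (hflat : FlatMod.IsFlatOver p G)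
    (hfib : PicF.IsInvertible ((Scheme.Modules.pullback s).obj G)) (x : W) :
    ∃ U : P.Opens, s x ∈ U ∧ Nonempty ((Scheme.Modules.restrictFunctor U.ι).obj G ≅ Coh.structureModule U.toScheme) := by
  haveI : IsClosedImmersion s := MorphismProperty.of_isPullback H.flip inferInstance
  let A := T.presheaf.stalk (p (s x))
  let B := P.presheaf.stalk (s x)
  let B' := W.presheaf.stalk x
  let σ : B →+* B' := (s.stalkMap x).hom
  letI : Algebra A B := (p.stalkMap (s x)).hom.toAlgebra
  haveI : IsLocalHom (algebraMap A B) := inferInstanceAs (IsLocalHom (p.stalkMap (s x)).hom)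
  let M := G.presheaf.stalk (s x)
  letI := FlatMod.moduleStalkOver p G (s x)
  haveI : IsScalarTower A B M := IsScalarTower.of_algebraMap_smul fun _ _ => rfl
  haveI : Module.Flat A M := hflat (s x)
  haveI : SheafOfModules.IsFiniteType (R := P.ringCatSheaf) G := hG.2
  haveI : Module.Finite B M := FDescent.finite_stalk G (s x)
  haveI : IsNoetherianRing B := inferInstanceAs (IsNoetherianRing (P.presheaf.stalk (s x)))
  haveI : Module.FinitePresentation B M := Module.finitePresentation_of_finite B M
  let I := (maximalIdeal A).map (algebraMap A B)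
  letI : Algebra B B' := σ.toAlgebra
  have hsurj : Function.Surjective σ := s.stalkMap_surjective x
  have hker : RingHom.ker σ = I := by
    refine le_antisymm (ker_stalkMap_of_isPullback H x) (Ideal.map_le_iff_le_comap.mpr fun c hc => ?_)
    show σ (algebraMap A B c) = 0
    by_contra hne
    -- the maximal ideal of the base point dies on the fibre
    have hpt : ∀ (q : W ⟶ T), q = π ≫ t → ∀ (a : T.presheaf.stalk (q x)),
        a ∈ maximalIdeal (T.presheaf.stalk (q x)) → (q.stalkMap x).hom a = 0 := by
      rintro q rfl a ha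
      rw [Scheme.Hom.stalkMap_comp]
      show (π.stalkMap x).hom ((t.stalkMap (π x)).hom a) = 0
      have h0 : (t.stalkMap (π x)).hom a = 0 := by
        have hfld : IsField ((Spec (CommRingCat.of K)).presheaf.stalk (π x)) :=
          ⟨⟨0, 1, zero_ne_one⟩, mul_comm, fun {b} hb =>
            isUnit_iff_exists_inv.1 ((FlatDvr.eq_zero_or_isUnit_stalk_field K _ b).resolve_left hb)⟩
        letI := hfld.toField
        by_contra h1
        exact (mem_maximalIdeal a).1 ha (isUnit_of_map_unit (t.stalkMap (π x)).hom a (IsUnit.mk0 _ h1))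
      rw [h0, map_zero]
    have h := hpt (s ≫ p) H.w c hc
    rw [Scheme.Hom.stalkMap_comp] at h
    exact hne h
  let eI : (B ⧸ I) ≃ₗ[B] B' :=
    LinearEquiv.ofBijective
      (Submodule.liftQ I (Algebra.linearMap B B') (by intro b hb; exact (hker.ge hb : σ b = 0)))
      ⟨by
        rw [← LinearMap.ker_eq_bot]
        exact Submodule.ker_liftQ_eq_bot _ _ _ fun b hb => hker.le (hb : σ b = 0), by
        intro b'
        obtain ⟨b, rfl⟩ := hsurj b'
        exact ⟨Submodule.Quotient.mk b, rfl⟩⟩
  -- the stalk of the fibre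
  obtain ⟨hlf, hrk⟩ := ConsPropLib.isFinLocFreeOfRank_iff.1 (InvEnd.isFinLocFreeOfRank_one hfib)
  haveI hfreeW := QCoh.free_stalk_of_isFinLocFree hlf x
  let eS : ((Scheme.Modules.pullback s).obj G).presheaf.stalk x ≃ₗ[B'] B' ⊗[B] M :=
    ((KFlatLib.stalkPullbackIso s x).app G).toLinearEquiv
  haveI : Module.Free B' (B' ⊗[B] M) := Module.Free.of_equiv eS
  let e₁ : (M ⧸ (I • ⊤ : Submodule B M)) ≃ₗ[B] B' ⊗[B] M :=
    (TensorProduct.quotTensorEquivQuotSMul M I).symm.trans (LinearEquiv.rTensor M eI)
  have hflatQ : Module.Flat (B ⧸ I) (M ⧸ (I • ⊤ : Submodule B M)) := by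
    let θ : (B ⧸ I) ≃+* B' := (Ideal.quotEquivOfEq hker.symm).trans (RingHom.quotientKerEquivOfSurjective hsurj)
    letI : Algebra B' (B ⧸ I) := θ.symm.toRingHom.toAlgebra
    letI : Module B' (M ⧸ (I • ⊤ : Submodule B M)) := Module.compHom _ θ.symm.toRingHom
    haveI : IsScalarTower B' (B ⧸ I) (M ⧸ (I • ⊤ : Submodule B M)) := IsScalarTower.of_algebraMap_smul fun _ _ => rfl
    let e₂ : (M ⧸ (I • ⊤ : Submodule B M)) ≃ₗ[B'] B' ⊗[B] M :=
      { e₁.toAddEquiv with
        map_smul' := fun b' m => by
          obtain ⟨b, rfl⟩ := hsurj b'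
          show e₁ (θ.symm (σ b) • m) = σ b • e₁ m
          rw [show θ.symm (σ b) = Ideal.Quotient.mk I b from θ.symm_apply_eq.2 rfl,
            show (Ideal.Quotient.mk I b) • m = b • m from rfl, map_smul]
          exact (algebraMap_smul B' b (e₁ m)).symm }
    haveI : Module.Free B' (M ⧸ (I • ⊤ : Submodule B M)) := Module.Free.of_equiv e₂.symm
    haveI : Module.Free (B ⧸ I) (M ⧸ (I • ⊤ : Submodule B M)) :=
      Module.Free.of_basis ((Module.Free.chooseBasis B' (M ⧸ (I • ⊤ : Submodule B M))).mapCoeffs θ.symm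
        (fun _ _ => rfl))
    infer_instance
  haveI : Module.Free B M := S1393.free_of_fibre hflatQ
  have hrank : Module.finrank B M = 1 := by
    rw [← Module.finrank_baseChange (R := B') (S := B) (M' := M), ← eS.finrank_eq]
    exact hrk x
  obtain ⟨U, r, hxU, ⟨e⟩⟩ := QCoh.exists_free_nhd_of_free_stalk (QCoh.isCoh_iff_isFP.1 hG) (s x)
  obtain ⟨_, ⟨V, hV, rfl⟩, hxV, hle⟩ :=
    P.isBasis_affineOpens.exists_subset_of_mem_open (show s x ∈ U from hxU) U.2
  obtain ⟨l⟩ := QCoh.exists_linearEquiv_of_freeIso (QCoh.freeChart hV hle e)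
  obtain rfl : r = 1 :=
    (QCoh.finrank_stalk_of_freeChart hV hG.1 ((QCoh.chartEquiv hV G).trans l) hxV).symm.trans hrank
  exact ⟨U, hxU, ⟨e ≪≫ coproductUniqueIso _⟩⟩

end Groth.Agent.PicNum61
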