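import Groth.Agent.PicNum61.H0Bound
import Groth.Agent.S12112

/-!
# Uniform regularity and invariance of the Euler characteristic for numerically trivial twists
-/

set_option autoImplicit false
set_option linter.style.haveILetI false
set_option linter.unusedSectionVars false
set_option backward.isDefEq.respectTransparency false
set_option backward.isDefEq.respectTransparency.types false
set_option maxHeartbeats 1000000

universe u

open CategoryTheory CategoryTheory.Limits AlgebraicGeometry TopologicalSpace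

noncomputable section

namespace Groth.Agent.PicNum61

open Groth.Agent
open scoped Groth.Agent.H23.PicMul

variable {k : Type u} [Field k] [IsAlgClosed k] {X : Scheme.{u}} [X.Over (Spec (CommRingCat.of k))]
  [IsProper (X ↘ Spec (CommRingCat.of k))] {n : ℕ} (i : X ⟶ CohB1.ProjSpace n k) [IsClosedImmersion i]

omit [IsAlgClosed k] [X.Over (Spec (CommRingCat.of k))] [IsProper (X ↘ Spec (CommRingCat.of k))] in
/-- Twisting a short exact sequence, with the first term replaced. -/
theorem exists_twisted_seq {A A' F G L : X.Modules} (hL : PicF.IsInvertible L) (f : A ⟶ F) (g : F ⟶ G)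
    (hfg : f ≫ g = 0) (hS : (ShortComplex.mk f g hfg).ShortExact) (e : A' ≅ CohB1.tensorMod A L) :
    ∃ (f' : A' ⟶ CohB1.tensorMod F L) (g' : CohB1.tensorMod F L ⟶ CohB1.tensorMod G L) (h : f' ≫ g' = 0),
      (ShortComplex.mk f' g' h).ShortExact := by
  haveI := AmpleVan.isEquivalence_tw hL
  have hT := hS.map_of_exact (AmpleVan.tw L)
  let e' : A' ≅ (AmpleVan.tw L).obj A := e
  have w : (e'.hom ≫ (AmpleVan.tw L).map f) ≫ (AmpleVan.tw L).map g = 0 := by
    rw [Category.assoc, ← Functor.map_comp, hfg, Functor.map_zero, comp_zero]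
  refine ⟨e'.hom ≫ (AmpleVan.tw L).map f, (AmpleVan.tw L).map g, w, ?_⟩
  exact ShortComplex.shortExact_of_iso
    (S₁ := (ShortComplex.mk f g hfg).map (AmpleVan.tw L))
    (S₂ := ShortComplex.mk (e'.hom ≫ (AmpleVan.tw L).map f) ((AmpleVan.tw L).map g) w)
    (ShortComplex.isoMk e'.symm (Iso.refl _) (Iso.refl _) (by simp) (by simp)) hT

/-- A twisted cut. -/
theorem exists_cut_tensor {F G L : X.Modules} (hL : PicF.IsInvertible L) (f : Pic13.twistOn k i F (-1) ⟶ F)
    (g : F ⟶ G) (hfg : f ≫ g = 0) (hS : (ShortComplex.mk f g hfg).ShortExact) :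
    ∃ (f' : Pic13.twistOn k i (CohB1.tensorMod F L) (-1) ⟶ CohB1.tensorMod F L)
      (g' : CohB1.tensorMod F L ⟶ CohB1.tensorMod G L) (h : f' ≫ g' = 0),
      (ShortComplex.mk f' g' h).ShortExact :=
  exists_twisted_seq hL f g hfg hS (twistOn_tensor_comm i F L (-1)).some

/-- `χ(F ⊗ L) = χ(F)` and uniform regularity. -/
theorem main (hi : i ≫ CohB1.ProjSpace.toSpec n k = X ↘ Spec (CommRingCat.of k)) (d : ℕ) :
    ∀ (F : X.Modules), Coh.IsCoh F → topologicalKrullDim ↥(CohB1.support F) ≤ (d : WithBot ℕ∞) →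
      (∀ L, NumTriv k L → Curv2.euler k X (CohB1.tensorMod F L) = Curv2.euler k X F) ∧
      ∃ m : ℤ, ∀ L, NumTriv k L → Pic13.IsMRegular k i (CohB1.tensorMod F L) m := by
  haveI := CurveCohLib.isNoetherian_of_proper (k := k) (X := X)
  induction d with
  | zero =>
    intro F hF hd
    have hd0 : topologicalKrullDim ↥(CohB1.support F) ≤ 0 := by simpa using hd
    refine ⟨fun L hL => euler_tensor_of_dim_zero k hL.1 hF hd0, 0, fun L hL q hq => ?_⟩
    refine (Euler.good_of_dim_le_zero k (isCoh_tw i hF hL.1 _) ?_).1 q hq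
    exact (H23.TopDim.dim_le_dim_of_subset ((HilbPoly.support_tensor_subset _ _).trans
      (HilbPoly.support_tensor_subset _ _))).trans hd0
  | succ d ih =>
    intro F hF hd
    obtain ⟨G, f, g, hfg, hG, hGd, hS⟩ := exists_cut i hF d hd
    obtain ⟨-, m, hm⟩ := ih G hG hGd
    obtain ⟨B, hB⟩ := exists_h0_bound i (d + 1) F hF hd (m - 1)
    let N₀ := Pic13Lib.oX i (m - 1)
    have hN₀ : PicF.IsInvertible N₀ := Pic13Lib.isInvertible_oX i (m - 1)
    have s12112 : ∀ L, NumTriv k L →
        (∀ (q : ℕ) (n' : ℤ), 2 ≤ q → m - q ≤ n' →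
          Subsingleton (Coh.HH X (Pic13.twistOn k i (CohB1.tensorMod F L) n') q)) ∧
        Pic13.IsMRegular k i (CohB1.tensorMod F L)
          (m + Module.finrank k (Coh.HH X (Pic13.twistOn k i (CohB1.tensorMod F L) (m - 1)) 1)) := fun L hL => by
      obtain ⟨f', g', h', hS'⟩ := exists_cut_tensor i hL.1 f g hfg hS
      have hh := S12112.result k n X i hi (CohB1.tensorMod F L) (CohB1.tensorMod G L)
        (AmpleVan.isCoh_tensor hF (AmpleVan.isCoh_invertible hL.1))
        (AmpleVan.isCoh_tensor hG (AmpleVan.isCoh_invertible hL.1)) f' g' h' hS' m (hm L hL)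
      exact ⟨hh.1, hh.2.2.2⟩
    have heul : ∀ L, NumTriv k L → Curv2.euler k X (Pic13.twistOn k i (CohB1.tensorMod F L) (m - 1)) =
        (h0 i F L (m - 1) : ℤ) -
          Module.finrank k (Coh.HH X (Pic13.twistOn k i (CohB1.tensorMod F L) (m - 1)) 1) := by
      intro L hL
      rw [Euler.euler_eq_sum k _ 2 fun q hq => (s12112 L hL).1 q (m - 1) hq (by omega),
        Finset.sum_range_succ, Finset.sum_range_one]
      simp [sub_eq_add_neg, h0]
    -- the linear form
    let φ : X.Modules → X.Modules → ℤ := fun L C => Curv2.euler k X ((AmpleVan.tw L).obj C) - Curv2.euler k X C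
    have hφ : ∀ L, PicF.IsInvertible L → HilbPoly.Additive (φ L) := fun L hL =>
      ((HilbPoly.additive_euler k).shift hL).sub (HilbPoly.additive_euler k)
    have hshift : ∀ L, NumTriv k L → ∀ N, PicF.IsInvertible N → φ L (CohB1.tensorMod F N) = φ L F :=
      fun L hL N hN => shift_invariant (hφ L hL.1) (d + 1)
        (fun C hC hlt => sub_eq_zero.2 ((ih C hC (HilbPoly.le_of_lt_succ hlt)).1 L hL)) hN hF hd
    have hlin : ∀ L, NumTriv k L → ∀ j : ℕ,
        Curv2.euler k X (Pic13.twistOn k i (CohB1.tensorMod F (CohB1.tensorPow L j)) (m - 1)) =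
          Curv2.euler k X (CohB1.tensorMod F N₀) + j * φ L F := by
      intro L hL j
      induction j with
      | zero =>
        rw [Nat.cast_zero, zero_mul, add_zero]
        exact CurveCohLib.euler_congr (k := k) (PicGrp.tensorModIso (H23.PicMul.unit F).some (Iso.refl _))
      | succ j ihj =>
        have h1 := hshift L hL _ (H23.PicMul.isInvertible_tensor hN₀ (InvX.isInvertible_tensorPow hL.1 j))
        change Curv2.euler k X (CohB1.tensorMod (CohB1.tensorMod F (CohB1.tensorMod N₀ (CohB1.tensorPow L j))) L) -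
          Curv2.euler k X (CohB1.tensorMod F (CohB1.tensorMod N₀ (CohB1.tensorPow L j))) = _ at h1
        have e1 : Nonempty (CohB1.tensorMod (CohB1.tensorMod F (CohB1.tensorMod N₀ (CohB1.tensorPow L j))) L ≅
            Pic13.twistOn k i (CohB1.tensorMod F (CohB1.tensorPow L (j + 1))) (m - 1)) :=
          H23.PicMul.cl_eq_iff.1 (by
            show PicF.cl F * (PicF.cl N₀ * PicF.cl (CohB1.tensorPow L j)) * PicF.cl L =
              PicF.cl F * (PicF.cl (CohB1.tensorPow L j) * PicF.cl L) * PicF.cl N₀
            ac_rfl)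
        have e2 : Nonempty (CohB1.tensorMod F (CohB1.tensorMod N₀ (CohB1.tensorPow L j)) ≅
            Pic13.twistOn k i (CohB1.tensorMod F (CohB1.tensorPow L j)) (m - 1)) :=
          H23.PicMul.cl_eq_iff.1 (by
            show PicF.cl F * (PicF.cl N₀ * PicF.cl (CohB1.tensorPow L j)) =
              PicF.cl F * PicF.cl (CohB1.tensorPow L j) * PicF.cl N₀
            ac_rfl)
        rw [CurveCohLib.euler_congr (k := k) e1.some, CurveCohLib.euler_congr (k := k) e2.some, ihj] at h1
        push_cast
        linarith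
    have hnonpos : ∀ L, NumTriv k L → φ L F ≤ 0 := by
      intro L hL
      by_contra hpos
      push Not at hpos
      let j := ((B : ℤ) - Curv2.euler k X (CohB1.tensorMod F N₀)).toNat + 1
      have h1 := hlin L hL j
      rw [heul _ (hL.pow j)] at h1
      have h2 : (h0 i F (CohB1.tensorPow L j) (m - 1) : ℤ) ≤ B := by exact_mod_cast hB _ (hL.pow j)
      have h3 : (j : ℤ) ≤ j * φ L F := le_mul_of_one_le_right (by positivity) hpos
      have h4 : (B : ℤ) - Curv2.euler k X (CohB1.tensorMod F N₀) < j := by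
        simp only [j]
        push_cast
        omega
      omega
    have hzero : ∀ L, NumTriv k L → φ L F = 0 := by
      intro L hL
      obtain ⟨L', hL', ⟨e⟩⟩ := H23.PicInv.exists_inverse hL.1
      have hN' := hL.inverse hL' e
      have h1 := hshift L hL L' hL'
      have h2 : Curv2.euler k X (CohB1.tensorMod (CohB1.tensorMod F L') L) = Curv2.euler k X F :=
        CurveCohLib.euler_congr (k := k) ((H23.PicMul.assoc F L' L).some ≪≫
          PicGrp.tensorModIso (Iso.refl F) ((H23.PicMul.comm L' L).some ≪≫ e) ≪≫ (H23.PicMul.unit F).some)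
      change Curv2.euler k X (CohB1.tensorMod (CohB1.tensorMod F L') L) - Curv2.euler k X (CohB1.tensorMod F L') =
        φ L F at h1
      have h3 : φ L' F = Curv2.euler k X (CohB1.tensorMod F L') - Curv2.euler k X F := rfl
      have := hnonpos L hL
      have := hnonpos L' hN'
      omega
    refine ⟨fun L hL => sub_eq_zero.1 (hzero L hL),
      m + ((B : ℤ) - Curv2.euler k X (CohB1.tensorMod F N₀)).toNat, fun L hL => ?_⟩
    refine Pic13Lib.isMRegular_of_le i (AmpleVan.isCoh_tensor hF (AmpleVan.isCoh_invertible hL.1))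
      (s12112 L hL).2 ?_
    have h1 := hlin L hL 1
    rw [hzero L hL, mul_zero, add_zero] at h1
    replace h1 := (CurveCohLib.euler_congr (k := k) (Pic13Lib.twistOn_congr i
      (PicGrp.tensorModIso (Iso.refl F) ((H23.PicMul.comm _ _).some ≪≫ (H23.PicMul.unit L).some)) (m - 1)).some).symm.trans h1
    rw [heul L hL] at h1
    have h2 : (h0 i F L (m - 1) : ℤ) ≤ B := by exact_mod_cast hB L hL
    omega

/-- Hilbert polynomials do not see numerically trivial twists. -/
theorem euler_twistOn_eq (hi : i ≫ CohB1.ProjSpace.toSpec n k = X ↘ Spec (CommRingCat.of k)) {d : ℕ}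
    (hd : topologicalKrullDim X ≤ d) {F L : X.Modules} (hF : Coh.IsCoh F) (hL : NumTriv k L) (t : ℤ) :
    Curv2.euler k X (Pic13.twistOn k i (CohB1.tensorMod F L) t) = Curv2.euler k X (Pic13.twistOn k i F t) := by
  haveI := Pic13Lib.isLocallyNoetherian_of_closed i
  rw [CurveCohLib.euler_congr (k := k) (twistOn_tensor_comm i F L t).some]
  exact (main i hi d _ (Pic13Lib.isCoh_twistOn i hF t) (SurfInt.dim_support_le hd _)).1 L hL

end Groth.Agent.PicNum61
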