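import Groth.Agent.PicNum61.AlgPair
import Groth.Agent.PicNum61.Regular
import Groth.Agent.Pic13Lib.RegBounded
import Groth.Agent.Pic13Lib.Closed
import Groth.Agent.Lib.AmpleEmbed
import Groth.Agent.S4280

/-!
# Numerical triviality implies τ-triviality on projective schemes
-/

set_option autoImplicit false
set_option linter.style.haveILetI false
set_option linter.unusedSectionVars false
set_option backward.isDefEq.respectTransparency false
set_option backward.isDefEq.respectTransparency.types false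
set_option maxHeartbeats 1000000

universe u

open CategoryTheory CategoryTheory.Limits AlgebraicGeometry TopologicalSpace

noncomputable section

namespace Groth.Agent.PicNum61

open Groth.Agent
open scoped Groth.Agent.H23.PicMul

variable {k : Type u} [Field k] [IsAlgClosed k] {X : Scheme.{u}} [X.Over (Spec (CommRingCat.of k))]
  [IsProper (X ↘ Spec (CommRingCat.of k))]

omit [Field k] [IsAlgClosed k] [X.Over (Spec (CommRingCat.of k))] [IsProper (X ↘ Spec (CommRingCat.of k))] in
/-- The dimension of a proper scheme over a field is finite. -/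
theorem exists_dim (K : Type u) [Field K] (Z : Scheme.{u}) [Z.Over (Spec (CommRingCat.of K))]
    [IsProper (Z ↘ Spec (CommRingCat.of K))] : ∃ d : ℕ, topologicalKrullDim Z ≤ (d : WithBot ℕ∞) := by
  haveI := CurveCohLib.isNoetherian_of_proper (k := K) (X := Z)
  rcases isEmpty_or_nonempty Z with hX | hX
  · exact ⟨0, topologicalKrullDim_zero_of_discreteTopology Z⟩
  · exact (Groth.Agent.VarAmp.exists_natDim K (X := Z)).imp fun d h => h.le

variable {n : ℕ} (i : X ⟶ CohB1.ProjSpace n k) [IsClosedImmersion i]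

/-- Numerically trivial invertible modules form a bounded family. -/
theorem isBounded_numTriv (hi : i ≫ CohB1.ProjSpace.toSpec n k = X ↘ Spec (CommRingCat.of k)) :
    Pic13.IsBounded k X (NumTriv k) := by
  haveI := CurveCohLib.isNoetherian_of_proper (k := k) (X := X)
  haveI := Pic13Lib.isLocallyNoetherian_of_closed i
  obtain ⟨d, hd⟩ := exists_dim k X
  let O := Coh.structureModule X
  have hO : Coh.IsCoh O := AmpleVan.isCoh_invertible (PicLoc.isInvertible_structureModule X)
  obtain ⟨hχ, m, hm⟩ := main i hi d O hO (SurfInt.dim_support_le hd _)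
  let b := (Curv2.euler k X (Pic13.twistOn k i O m)).toNat
  obtain ⟨T, q, h1, h2, F, hF, hmem⟩ := Pic13Lib.isBounded_of_regular i hi m b
  refine ⟨T, q, h1, h2, F, hF, fun L hL => hmem L ?_⟩
  let e : CohB1.tensorMod O L ≅ L := (H23.PicMul.comm _ _).some ≪≫ (H23.PicMul.unit L).some
  have hLc := AmpleVan.isCoh_invertible hL.1
  have hreg : Pic13.IsMRegular k i L m := fun q hq =>
    haveI := hm L hL q hq
    QCoh.subsingleton_HH_of_iso (Pic13Lib.twistOn_congr i e (m - q)).some q inferInstance
  refine ⟨hLc, hreg, ?_⟩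
  have hvan : ∀ q, 1 ≤ q → Subsingleton (Coh.HH X (Pic13.twistOn k i L m) q) := fun q hq =>
    Pic13Lib.subsingleton_HH_of_isMRegular i hLc hreg hq (by omega)
  have h := Euler.euler_eq_sum k (Pic13.twistOn k i L m) 1 hvan
  rw [Finset.sum_range_one, pow_zero, one_mul,
    ← CurveCohLib.euler_congr (k := k) (Pic13Lib.twistOn_congr i e m).some,
    euler_twistOn_eq i hi hd hO hL m] at h
  exact_mod_cast (show (Module.finrank k (Coh.HH X (Pic13.twistOn k i L m) 0) : ℤ) = (b : ℤ) by
    simp only [b]; omega)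

omit [IsClosedImmersion i] in
/-- Numerically trivial implies τ-trivial, given an ample module. -/
theorem isTauEquivZero_of_numTriv {A : X.Modules} (hA : CohB1.IsAmple A) {L : X.Modules} (hL : NumTriv k L) :
    Pic13.IsTauEquivZero k X L := by
  obtain ⟨n, i, _, hi⟩ := AmpleEmbed.exists_closedImmersion (X ↘ Spec (CommRingCat.of k)) hA
  obtain ⟨a, b, hab, h⟩ := exists_algEquivZero_pair (isBounded_numTriv i hi) (fun j => CohB1.tensorPow L j)
    (fun j => (hL.pow j).1) (fun j => hL.pow j)
  obtain ⟨N, hN, ⟨e⟩⟩ := H23.PicInv.exists_inverse (hL.pow a).1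
  refine ⟨b - a, by omega, ?_⟩
  obtain ⟨T, q, h1, h2, h3, M, hM, t, t₀, ht, ht₀, ⟨e1⟩, e0⟩ := h N hN ⟨e⟩
  refine ⟨T, q, h1, h2, h3, M, hM, t, t₀, ht, ht₀, ⟨e1 ≪≫ (H23.PicMul.cl_eq_iff.1 ?_).some⟩, e0⟩
  have he := H23.PicMul.cl_eq_iff.2 ⟨e⟩
  rw [H23.PicMul.cl_tensor] at he
  rw [H23.PicMul.cl_tensor, H23.PicMul.cl_tensorPow, H23.PicMul.cl_tensorPow]
  rw [H23.PicMul.cl_tensorPow] at he
  calc PicF.cl L ^ b * PicF.cl N = PicF.cl L ^ (b - a) * (PicF.cl L ^ a * PicF.cl N) := by
        rw [← mul_assoc, ← pow_add, Nat.sub_add_cancel hab.le]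
    _ = _ := by rw [he]; exact mul_one _

end Groth.Agent.PicNum61
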